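import Groth.Prelude.Def_Dual3
import Groth.Agent.CIFlatLib.Gorenstein
import Groth.Agent.GorLib.Transport
import Mathlib

/-!
# Gorenstein schemes and local complete intersection morphisms
-/

set_option autoImplicit false
set_option backward.isDefEq.respectTransparency false
universe u
open CategoryTheory AlgebraicGeometry

noncomputable section

namespace Groth.Agent.GorSchemeLib

theorem gorensteinRing_of_isGorenstein {X : Scheme.{u}} (hX : Dual3.IsGorenstein X) (V : X.affineOpens) :
    LocCoh.IsGorensteinRing Γ(X, V.1) := by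
  haveI := hX.1
  haveI : IsNoetherianRing Γ(X, V.1) := IsLocallyNoetherian.component_noetherian V
  refine { isGorensteinLocalRing_localization := fun p hp => ?_ }
  have hy : V.2.fromSpec ⟨p, hp⟩ ∈ (V.1 : Set X) := by
    rw [← V.2.range_fromSpec]
    exact ⟨_, rfl⟩
  letI := TopCat.Presheaf.algebra_section_stalk X.presheaf ⟨V.2.fromSpec ⟨p, hp⟩, hy⟩
  haveI : IsLocalization.AtPrime (X.presheaf.stalk (V.2.fromSpec ⟨p, hp⟩)) p :=
    V.2.isLocalization_stalk' ⟨p, hp⟩ hy
  exact GorLib.gorenstein_of_ringEquiv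
    (IsLocalization.algEquiv p.primeCompl (X.presheaf.stalk (V.2.fromSpec ⟨p, hp⟩))
      (Localization.AtPrime p)).toRingEquiv (hX.2 _)

theorem gorenstein_stalk {X : Scheme.{u}} (U : X.affineOpens) (h : LocCoh.IsGorensteinRing Γ(X, U.1))
    {x : X} (hx : x ∈ U.1) : LocCoh.IsGorensteinLocalRing (X.presheaf.stalk x) := by
  letI := TopCat.Presheaf.algebra_section_stalk X.presheaf ⟨x, hx⟩
  haveI : IsLocalization.AtPrime (X.presheaf.stalk x) (U.2.primeIdealOf ⟨x, hx⟩).asIdeal :=
    U.2.isLocalization_stalk ⟨x, hx⟩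
  exact GorLib.gorenstein_of_ringEquiv
    (IsLocalization.algEquiv (U.2.primeIdealOf ⟨x, hx⟩).asIdeal.primeCompl
      (Localization.AtPrime (U.2.primeIdealOf ⟨x, hx⟩).asIdeal) (X.presheaf.stalk x)).toRingEquiv
    (LocCoh.IsGorensteinRing.isGorensteinLocalRing_localization _)

/-- A scheme with a local complete intersection morphism to a Gorenstein scheme is Gorenstein. -/
theorem isGorenstein_of_isLCIMor {Y X : Scheme.{u}} (f : Y ⟶ X) (hf : Dual3.IsLCIMor f)
    (hX : Dual3.IsGorenstein X) : Dual3.IsGorenstein Y := by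
  choose U V e hx hl using hf
  have hG : ∀ y, LocCoh.IsGorensteinRing Γ(Y, (U y).1) := fun y => by
    letI := (f.appLE (V y).1 (U y).1 (e y)).hom.toAlgebra
    haveI := gorensteinRing_of_isGorenstein hX (V y)
    exact CIFlatLib.gorensteinRing_of_isLCI Γ(X, (V y).1) Γ(Y, (U y).1) (hl y)
  refine ⟨isLocallyNoetherian_of_affine_cover (S := U) ?_ (fun y => by haveI := hG y; infer_instance),
    fun y => gorenstein_stalk (U y) (hG y) (hx y)⟩
  exact TopologicalSpace.Opens.ext (Set.eq_univ_of_forall fun y => by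
    simp only [TopologicalSpace.Opens.coe_iSup, Set.mem_iUnion]
    exact ⟨y, hx y⟩)

end Groth.Agent.GorSchemeLib

end
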